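import Cfsg.Agent.Lib.Helper56.L37D.ChkP0
import Cfsg.Agent.Lib.Helper56.L37D.ChkF0
import Cfsg.Agent.Lib.Helper56.L37D.ChkC0

set_option autoImplicit false
set_option linter.unusedVariables false

namespace Cfsg.Agent.Lib.Helper56.L37D

open Cfsg.Agent.Lib.Helper28.TC

noncomputable section

def NNpad : ℕ := 1024
theorem permP_all : ∀ i, i < nn → permP i = true := by
  refine all_of_blocks nn permP 8 1 (by decide) ?_
  intro k hk
  interval_cases k
  · exact permP_blk0

theorem factP_all : ∀ i, i < NNpad → factP i = true := by
  refine allBlocks_spec factP 10 1 ?_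
  intro k hk
  interval_cases k
  · exact factP_blk0

theorem closedP_all : ∀ i, i < nn → closedP i = true := by
  refine all_of_blocks nn closedP 10 1 (by decide) ?_
  intro k hk
  interval_cases k
  · exact closedP_blk0

theorem hotA_lt : hotA < 2 ^ (11 * 1024) := by decide +kernel
theorem hotE0_lt : hotE0 < 2 ^ (11 * 1024) := by decide +kernel
theorem hotE1_lt : hotE1 < 2 ^ (11 * 1024) := by decide +kernel
theorem subFix : allList (fun w => Nat.beq (act tf w 0) 0) subWords = true := by decide +kernel

end

end Cfsg.Agent.Lib.Helper56.L37D
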