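import Cfsg.Agent.Lib.Helper28.TCCheck
import Cfsg.Agent.Lib.Helper56.L37D.Pres

set_option autoImplicit false
set_option linter.unusedVariables false

namespace Cfsg.Agent.Lib.Helper56.L37D

open Cfsg.Agent.Lib.Helper28.TC

noncomputable section

def hotE0_c0 : ℕ := 0x7def41962eb61cb35141e7414724920e320c31410802
def hotE0 : ℕ := hotE0_c0
def coldE0_c0 : ℕ := 0x3a5818b0002e0002a00000000000001e0001a00000000000000e0000a00000000000000200000
def coldE0 : ℕ := coldE0_c0
def tfT0_c0 : ℕ := 0x73d6a6b0e64a06229001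
def tfT0 : ℕ := tfT0_c0

end

end Cfsg.Agent.Lib.Helper56.L37D
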