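import Cfsg.Agent.Lib.Helper28.TCCheck
import Cfsg.Agent.Lib.Helper56.L37D.Pres

set_option autoImplicit false
set_option linter.unusedVariables false

namespace Cfsg.Agent.Lib.Helper56.L37D

open Cfsg.Agent.Lib.Helper28.TC

noncomputable section

def hotE1_c0 : ℕ := 0x75cdb5c834f5549a54624b34c594c414714418442043
def hotE1 : ℕ := hotE1_c0
def coldE1_c0 : ℕ := 0x36000320000000000000260002200000000000001600012000000000000006000020000000000
def coldE1 : ℕ := coldE1_c0
def tfT1_c0 : ℕ := 0x6b1ee4a16a290e608062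
def tfT1 : ℕ := tfT1_c0

end

end Cfsg.Agent.Lib.Helper56.L37D
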