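import Cfsg.Agent.Lib.Helper56.L37D.DataE0
import Cfsg.Agent.Lib.Helper56.L37D.DataE1
import Cfsg.Agent.Lib.Helper56.L37D.DataA

set_option autoImplicit false
set_option linter.unusedVariables false

namespace Cfsg.Agent.Lib.Helper56.L37D

open Cfsg.Agent.Lib.Helper28.TC

noncomputable section

/-- decode a generator -/
def genOf (c : ℕ) : Gen := Nat.rec (motive := fun _ => Gen) Gen.p (fun c _ => Gen.r) c

def hotE (x : Gen) : ℕ := Gen.rec (motive := fun _ => ℕ) hotE0 hotE1 x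
def coldE (x : Gen) : ℕ := Gen.rec (motive := fun _ => ℕ) coldE0 coldE1 x
def tfT (x : Gen) : ℕ := Gen.rec (motive := fun _ => ℕ) tfT0 tfT1 x

def entH (x : Gen) (u : ℕ) : ℕ := look (hotE x) 11 2047 u
def jEc (x : Gen) (u : ℕ) : ℕ := look (coldE x) 20 1048575 u
def alH (k : ℕ) : ℕ := look hotA 11 2047 k
def jAc (k : ℕ) : ℕ := look coldA 44 17592186044415 k
def treeE (k : ℕ) : ℕ := look treeT 14 16383 k
/-- the final coset table -/
def tf (x : Gen) (i : ℕ) : ℕ := look (tfT x) 5 31 i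
/-- the final coset number of a row -/
def fin (k : ℕ) : ℕ := Nat.shiftRight (treeE k) 9
/-- the designated row of a final coset -/
def rowOf (i : ℕ) : ℕ := look rowT 5 31 i

/-- the cycle words with their reverses and lengths -/
def cycs : List (List Gen × List Gen × ℕ) := [
  ([Gen.p, Gen.p], [Gen.p, Gen.p], 2),
  ([Gen.r, Gen.r], [Gen.r, Gen.r], 2),
  ([Gen.p, Gen.r, Gen.p, Gen.r, Gen.p, Gen.r, Gen.p, Gen.r, Gen.p, Gen.r, Gen.p, Gen.r, Gen.p, Gen.r, Gen.p, Gen.r], [Gen.r, Gen.p, Gen.r, Gen.p, Gen.r, Gen.p, Gen.r, Gen.p, Gen.r, Gen.p, Gen.r, Gen.p, Gen.r, Gen.p, Gen.r, Gen.p], 16)]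

/-- the relator words -/
def relWords : List (List Gen) := [
  [Gen.p, Gen.p],
  [Gen.r, Gen.r],
  [Gen.p, Gen.r, Gen.p, Gen.r, Gen.p, Gen.r, Gen.p, Gen.r, Gen.p, Gen.r, Gen.p, Gen.r, Gen.p, Gen.r, Gen.p, Gen.r]]

/-- the subgroup generator words -/
def subWords : List (List Gen) := [
  ]

/-- the certificate -/
def C : Cert Gen where
  par := fun k => Nat.land (treeE k) 31
  gn := fun k => genOf (Nat.land (Nat.shiftRight (treeE k) 5) 15)
  ent := fun x u => Nat.land (entH x u) 31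
  rkE := fun x u => Nat.shiftRight (entH x u) 5
  jEk := fun x u => Nat.land (jEc x u) 3
  jEa := fun x u => Nat.land (Nat.shiftRight (jEc x u) 2) 31
  jEp := fun x u => Nat.land (Nat.shiftRight (jEc x u) 7) 255
  jEz := fun x u => Nat.shiftRight (jEc x u) 15
  al := fun k => Nat.land (alH k) 31
  rkA := fun k => Nat.shiftRight (alH k) 5
  jAx := fun k => genOf (Nat.land (jAc k) 15)
  jA1k := fun k => Nat.land (Nat.shiftRight (jAc k) 4) 3
  jA1a := fun k => Nat.land (Nat.shiftRight (jAc k) 6) 31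
  jA1p := fun k => Nat.land (Nat.shiftRight (jAc k) 11) 255
  jA1z := fun k => Nat.land (Nat.shiftRight (jAc k) 19) 31
  jA2k := fun k => Nat.land (Nat.shiftRight (jAc k) 24) 3
  jA2a := fun k => Nat.land (Nat.shiftRight (jAc k) 26) 31
  jA2p := fun k => Nat.land (Nat.shiftRight (jAc k) 31) 255
  jA2z := fun k => Nat.land (Nat.shiftRight (jAc k) 39) 31
  cycW := fun ci => (nthD cycs ci ([], [], 0)).1
  cycR := fun ci => (nthD cycs ci ([], [], 0)).2.1
  cycL := fun ci => (nthD cycs ci ([], [], 0)).2.2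
  cycA := fun ci => Nat.ble 3 ci
  fuel := 1

def NN : ℕ := 16
def nn : ℕ := 16
def RR : ℕ := 33

end

end Cfsg.Agent.Lib.Helper56.L37D
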